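import Cfsg.Agent.H397.GW.Num

/-!
# Gluck-Wolf: the numerical parts of [S3'] and [S5'] (helper397)
-/

set_option autoImplicit false
set_option exponentiation.threshold 2000

namespace Cfsg.Agent.H397.GW

open Cfsg.Agent.H662.GW

/-- the counting inequality as a lower bound for `M` -/
theorem ineq_pow {p s n j q M E : ℕ} (h : Ineq p s n j q M) (hp : 1 ≤ p) (hq : p ≤ q)
    (hEn : E ≤ s ^ n) (hE : s ^ n + (p - 1) * s ^ (n - j) < p * (s ^ n - E + 1)) :
    p ^ E ≤ s ^ (2 * j) * M := by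
  obtain ⟨k, hk, hI⟩ := h
  have hk1 : k ≤ s ^ n - E := by
    by_contra hcon
    have h1 : p * (s ^ n - E + 1) ≤ p * k := Nat.mul_le_mul_left _ (by omega)
    omega
  have hE2 : E ≤ s ^ n - k := by omega
  have hq0 : 0 < q := by omega
  have h2 : q ^ (s ^ n - k) ≤ s ^ (2 * j) * M := by
    refine Nat.le_of_mul_le_mul_left (c := q ^ k) ?_ (Nat.pow_pos hq0)
    rw [← pow_add, show k + (s ^ n - k) = s ^ n by omega, ← mul_assoc]
    exact hI
  calc p ^ E ≤ q ^ E := Nat.pow_le_pow_left hq _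
    _ ≤ q ^ (s ^ n - k) := Nat.pow_le_pow_right hq0 hE2
    _ ≤ _ := h2

/-- [S3'] numerics, `n = 8` -/
theorem num3_eight {j f M : ℕ} (hj : 1 ≤ j) (hjn : j ≤ 8) (hf : 1 ≤ f)
    (hM : M * (3 * (2 ^ ((8 - j) ^ 2) * ∏ i ∈ Finset.range (8 - j), (2 ^ (2 * (i + 1)) - 1)))
      ≤ 2 ^ (8 ^ 2) * ∏ i ∈ Finset.range 8, (2 ^ (2 * (i + 1)) - 1))
    (hI : Ineq 3 2 8 j (3 ^ f) M) : False := by
  have hq : 3 ≤ 3 ^ f := Nat.le_self_pow (by omega) 3
  have key : ∀ E : ℕ, E ≤ 2 ^ 8 → 2 ^ 8 + (3 - 1) * 2 ^ (8 - j) < 3 * (2 ^ 8 - E + 1) →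
      3 ^ E ≤ 2 ^ (2 * j) * M := fun E h1 h2 => ineq_pow hI (by norm_num) hq h1 h2
  interval_cases j
  all_goals simp only [Finset.prod_range_succ, Finset.prod_range_zero] at hM
  · have := key 85 (by norm_num) (by norm_num); norm_num at this hM; omega
  · have := key 127 (by norm_num) (by norm_num); norm_num at this hM; omega
  · have := key 149 (by norm_num) (by norm_num); norm_num at this hM; omega
  · have := key 159 (by norm_num) (by norm_num); norm_num at this hM; omega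
  · have := key 165 (by norm_num) (by norm_num); norm_num at this hM; omega
  · have := key 167 (by norm_num) (by norm_num); norm_num at this hM; omega
  · have := key 169 (by norm_num) (by norm_num); norm_num at this hM; omega
  · have := key 169 (by norm_num) (by norm_num); norm_num at this hM; omega

/-- [S3'] numerics, `n = 7` -/
theorem num3_seven {j f M : ℕ} (hj : 1 ≤ j) (hjn : j ≤ 7) (hf : 1 ≤ f)
    (hM : M * (3 * (2 ^ ((7 - j) ^ 2) * ∏ i ∈ Finset.range (7 - j), (2 ^ (2 * (i + 1)) - 1)))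
      ≤ 2 ^ (7 ^ 2) * ∏ i ∈ Finset.range 7, (2 ^ (2 * (i + 1)) - 1))
    (hI : Ineq 3 2 7 j (3 ^ f) M) : False := by
  have hq : 3 ≤ 3 ^ f := Nat.le_self_pow (by omega) 3
  have key : ∀ E : ℕ, E ≤ 2 ^ 7 → 2 ^ 7 + (3 - 1) * 2 ^ (7 - j) < 3 * (2 ^ 7 - E + 1) →
      3 ^ E ≤ 2 ^ (2 * j) * M := fun E h1 h2 => ineq_pow hI (by norm_num) hq h1 h2
  interval_cases j
  all_goals simp only [Finset.prod_range_succ, Finset.prod_range_zero] at hM
  · have := key 43 (by norm_num) (by norm_num); norm_num at this hM; omega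
  · have := key 64 (by norm_num) (by norm_num); norm_num at this hM; omega
  · have := key 75 (by norm_num) (by norm_num); norm_num at this hM; omega
  · have := key 80 (by norm_num) (by norm_num); norm_num at this hM; omega
  · have := key 83 (by norm_num) (by norm_num); norm_num at this hM; omega
  · have := key 84 (by norm_num) (by norm_num); norm_num at this hM; omega
  · have := key 85 (by norm_num) (by norm_num); norm_num at this hM; omega

/-- [S3'] numerics, `n = 6`, `j ≤ 2` -/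
theorem num3_six {j f M : ℕ} (hj : 1 ≤ j) (hj2 : j ≤ 2) (hf : 1 ≤ f)
    (hM : M * (3 * (2 ^ ((6 - j) ^ 2) * ∏ i ∈ Finset.range (6 - j), (2 ^ (2 * (i + 1)) - 1)))
      ≤ 2 ^ (6 ^ 2) * ∏ i ∈ Finset.range 6, (2 ^ (2 * (i + 1)) - 1))
    (hI : Ineq 3 2 6 j (3 ^ f) M) : False := by
  have hq : 3 ≤ 3 ^ f := Nat.le_self_pow (by omega) 3
  have key : ∀ E : ℕ, E ≤ 2 ^ 6 → 2 ^ 6 + (3 - 1) * 2 ^ (6 - j) < 3 * (2 ^ 6 - E + 1) →
      3 ^ E ≤ 2 ^ (2 * j) * M := fun E h1 h2 => ineq_pow hI (by norm_num) hq h1 h2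
  interval_cases j
  all_goals simp only [Finset.prod_range_succ, Finset.prod_range_zero] at hM
  · have := key 22 (by norm_num) (by norm_num); norm_num at this hM; omega
  · have := key 32 (by norm_num) (by norm_num); norm_num at this hM; omega

/-- [S3'] numerics, `n = 6`, `j ≥ 3` -/
theorem num3_six' {j f M : ℕ} (hj : 3 ≤ j) (hj6 : j ≤ 6) (hf : 1 ≤ f)
    (hI : Ineq 3 2 6 j (3 ^ f) M) : 2 ^ 54 < M := by
  have hq : 3 ≤ 3 ^ f := Nat.le_self_pow (by omega) 3
  have key : ∀ E : ℕ, E ≤ 2 ^ 6 → 2 ^ 6 + (3 - 1) * 2 ^ (6 - j) < 3 * (2 ^ 6 - E + 1) →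
      3 ^ E ≤ 2 ^ (2 * j) * M := fun E h1 h2 => ineq_pow hI (by norm_num) hq h1 h2
  interval_cases j
  · have := key 38 (by norm_num) (by norm_num); norm_num at this ⊢; omega
  · have := key 40 (by norm_num) (by norm_num); norm_num at this ⊢; omega
  · have := key 42 (by norm_num) (by norm_num); norm_num at this ⊢; omega
  · have := key 42 (by norm_num) (by norm_num); norm_num at this ⊢; omega

/-- [S5'] numerics, `n = 5`, `j ≤ 3` -/
theorem num5_five {j f M : ℕ} (hj : 1 ≤ j) (hj3 : j ≤ 3) (hf : 1 ≤ f)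
    (hM : M * (5 * (2 ^ ((5 - j) ^ 2) * ∏ i ∈ Finset.range (5 - j), (2 ^ (2 * (i + 1)) - 1)))
      ≤ 2 ^ (5 ^ 2) * ∏ i ∈ Finset.range 5, (2 ^ (2 * (i + 1)) - 1))
    (hI : Ineq 5 2 5 j (5 ^ f) M) : False := by
  have hq : 5 ≤ 5 ^ f := Nat.le_self_pow (by omega) 5
  have key : ∀ E : ℕ, E ≤ 2 ^ 5 → 2 ^ 5 + (5 - 1) * 2 ^ (5 - j) < 5 * (2 ^ 5 - E + 1) →
      5 ^ E ≤ 2 ^ (2 * j) * M := fun E h1 h2 => ineq_pow hI (by norm_num) hq h1 h2
  interval_cases j
  all_goals simp only [Finset.prod_range_succ, Finset.prod_range_zero] at hM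
  · have := key 13 (by norm_num) (by norm_num); norm_num at this hM; omega
  · have := key 20 (by norm_num) (by norm_num); norm_num at this hM; omega
  · have := key 23 (by norm_num) (by norm_num); norm_num at this hM; omega

/-- [S5'] numerics, `n = 5`, `j ≥ 4` -/
theorem num5_five' {j f M : ℕ} (hj : 4 ≤ j) (hj5 : j ≤ 5) (hf : 1 ≤ f)
    (hI : Ineq 5 2 5 j (5 ^ f) M) : 2 ^ 47 < M := by
  have hq : 5 ≤ 5 ^ f := Nat.le_self_pow (by omega) 5
  have key : ∀ E : ℕ, E ≤ 2 ^ 5 → 2 ^ 5 + (5 - 1) * 2 ^ (5 - j) < 5 * (2 ^ 5 - E + 1) →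
      5 ^ E ≤ 2 ^ (2 * j) * M := fun E h1 h2 => ineq_pow hI (by norm_num) hq h1 h2
  interval_cases j
  · have := key 24 (by norm_num) (by norm_num); norm_num at this ⊢; omega
  · have := key 25 (by norm_num) (by norm_num); norm_num at this ⊢; omega

end Cfsg.Agent.H397.GW
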